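import Cfsg.Agent.Lib.Helper12.TC.Fi22o3510.Tab
import Cfsg.Agent.Lib.Helper12.TC.Fn.LowerParts

/-! checks for the lower bound of the order, part 0 (generated, helper12) -/

set_option autoImplicit false
set_option maxRecDepth 100000

namespace Cfsg.Agent.Lib.Helper12.TC.Fi22o3510

open Cfsg.Agent.Lib.Helper12.TC

theorem hs18_0 : Fn.slpColK TT 18 [17, 17, 16, 14, 15, 15, 17, 11, 14, 15, 10, 11, 14, 15, 10, 1, 6, 4, 8, 7, 0, 5, 6, 4, 0, 2, 3, 5, 2, 5, 6, 3, 4, 1, 6, 8, 5, 8, 7] 0 3000 = true := by decide +kernel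

theorem hs11_0 : Fn.slpColK TT 11 [9, 9, 9, 9, 9, 9, 9, 9, 9, 8, 6, 8, 3, 4, 4, 7, 8, 6, 0, 7, 3, 6, 6, 2, 5, 8, 5, 1, 7, 8, 1, 2, 8] 0 3510 = true := by decide +kernel

theorem hs9_0 : Fn.slpColK TT 9 [2, 1, 4, 1, 7, 7, 7, 6, 3, 1, 7, 0, 6, 6, 0, 7, 4, 3, 1, 5, 0, 0, 0, 8] 0 3510 = true := by decide +kernel

end Cfsg.Agent.Lib.Helper12.TC.Fi22o3510
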