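import Cfsg.Agent.Lib.Helper12.TC.Fi22o3510.Tab
import Cfsg.Agent.Lib.Helper12.TC.Fn.LowerParts

/-! checks for the lower bound of the order, part 2 (generated, helper12) -/

set_option autoImplicit false
set_option maxRecDepth 100000

namespace Cfsg.Agent.Lib.Helper12.TC.Fi22o3510

open Cfsg.Agent.Lib.Helper12.TC

theorem hs14_0 : Fn.slpColK TT 14 [13, 11, 11, 11, 13, 13, 13, 10, 12, 10, 10, 10, 0, 3, 2, 8, 2, 1, 8, 4, 0, 1, 1, 0, 7, 0, 4, 3, 4, 1, 2, 5, 4, 1, 2, 2] 0 3243 = true := by decide +kernel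

theorem hs10_0 : Fn.slpColK TT 10 [9, 9, 9, 9, 9, 9, 9, 9, 9, 0, 6, 3, 6, 0, 8, 3, 7, 7, 8, 3, 5, 3, 3, 7, 4, 0, 6, 8, 1, 2, 4, 1, 5] 0 3510 = true := by decide +kernel

theorem hc8_1 : Fn.eqWordsK TT [0, 1, 2, 3, 4, 7, 0, 1, 2, 3, 4, 7, 0, 1, 2, 3, 4, 7, 0, 1, 2, 3, 4, 7, 0, 1, 2, 3, 4, 7, 0] [0, 0, 1, 2, 3, 4, 7, 0, 1, 2, 3, 4, 7, 0, 1, 2, 3, 4, 7, 0, 1, 2, 3, 4, 7, 0, 1, 2, 3, 4, 7] 1935 1575 = true := by decide +kernel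

end Cfsg.Agent.Lib.Helper12.TC.Fi22o3510
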