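import Cfsg.Agent.Lib.Helper12.TC.Fi22o3510.Main
import Cfsg.Agent.Lib.Helper12.TC.Fi22o3510.Lev0
import Cfsg.Agent.Lib.Helper12.TC.Fi22o3510.Lev1
import Cfsg.Agent.Lib.Helper12.TC.Fi22o3510.Lev2
import Cfsg.Agent.Lib.Helper12.TC.Fi22o3510.Lev3
import Cfsg.Agent.Lib.Helper12.TC.Fi22o3510.Lev4
import Cfsg.Agent.Lib.Helper12.TC.Fi22o3510.Lev5

/-! the permutation representation and the lower bound for the order for Fi22o3510 (generated, helper12) -/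

set_option autoImplicit false
set_option maxRecDepth 100000

namespace Cfsg.Agent.Lib.Helper12.TC.Fi22o3510

open Cfsg.Agent.Lib.Helper12.TC Cfsg.Agent.Lib.Helper12.TC.Fi22Pres

/-- the permutation representation -/
noncomputable def rho : (PresentedGroup (Cfsg.Spor.coxRelators Cfsg.Spor.Fi22.edges ∪
      {r | r ∈ Cfsg.Spor.Fi22.extra})) →* Equiv.Perm (Fin cN) := mainRho.choose

theorem rho_gen : ∀ x < 9, ∀ i : Fin cN, ((rho ((PresentedGroup.mk (Cfsg.Spor.coxRelators Cfsg.Spor.Fi22.edges ∪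
      {r | r ∈ Cfsg.Spor.Fi22.extra}))
    (FreeGroup.of (gen x))) i : Fin cN) : ℕ) = TT x i := mainRho.choose_spec.1

theorem rho_index : ((Subgroup.closure S).map (PresentedGroup.mk (Cfsg.Spor.coxRelators Cfsg.Spor.Fi22.edges ∪
      {r | r ∈ Cfsg.Spor.Fi22.extra}))).index = cN := mainRho.choose_spec.2.1

theorem rho_equiv : ∃ Φ : ((PresentedGroup (Cfsg.Spor.coxRelators Cfsg.Spor.Fi22.edges ∪
      {r | r ∈ Cfsg.Spor.Fi22.extra})) ⧸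
    (Subgroup.closure S).map (PresentedGroup.mk (Cfsg.Spor.coxRelators Cfsg.Spor.Fi22.edges ∪
      {r | r ∈ Cfsg.Spor.Fi22.extra}))) ≃ Fin cN,
    ∀ γ : (PresentedGroup (Cfsg.Spor.coxRelators Cfsg.Spor.Fi22.edges ∪
      {r | r ∈ Cfsg.Spor.Fi22.extra})), Φ (γ : (PresentedGroup (Cfsg.Spor.coxRelators Cfsg.Spor.Fi22.edges ∪
      {r | r ∈ Cfsg.Spor.Fi22.extra})) ⧸
      (Subgroup.closure S).map (PresentedGroup.mk (Cfsg.Spor.coxRelators Cfsg.Spor.Fi22.edges ∪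
      {r | r ∈ Cfsg.Spor.Fi22.extra}))) = rho γ ⟨0, hN0⟩ := mainRho.choose_spec.2.2

/-- the words of the further columns -/
def prog : List (List ℕ) :=
  [[2, 1, 4, 1, 7, 7, 7, 6, 3, 1, 7, 0, 6, 6, 0, 7, 4, 3, 1, 5, 0, 0, 0, 8],
   [9, 9, 9, 9, 9, 9, 9, 9, 9, 0, 6, 3, 6, 0, 8, 3, 7, 7, 8, 3, 5, 3, 3, 7, 4, 0, 6, 8, 1, 2, 4, 1, 5],
   [9, 9, 9, 9, 9, 9, 9, 9, 9, 8, 6, 8, 3, 4, 4, 7, 8, 6, 0, 7, 3, 6, 6, 2, 5, 8, 5, 1, 7, 8, 1, 2, 8],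
   [9, 10, 11, 9, 10, 11, 11, 9, 10, 6, 5, 7, 0, 7, 0, 4, 6, 2, 2, 8, 3, 0, 3, 8, 8, 3, 6, 8, 5, 5, 7, 4, 8],
   [12, 11, 12, 12, 12, 10, 10, 9, 11, 10, 12, 12, 9, 11, 0, 6, 8, 2, 8, 8, 3, 6, 0, 7, 5, 8, 3, 8, 6, 7, 5, 6, 5, 0, 8, 8, 5, 7],
   [13, 11, 11, 11, 13, 13, 13, 10, 12, 10, 10, 10, 0, 3, 2, 8, 2, 1, 8, 4, 0, 1, 1, 0, 7, 0, 4, 3, 4, 1, 2, 5, 4, 1, 2, 2],
   [13, 14, 13, 11, 11, 13, 12, 13, 12, 14, 14, 9, 11, 13, 11, 9, 10, 13, 10, 4, 8, 2, 4, 4, 7, 5, 7, 7, 1, 0, 4, 6, 5, 6, 3, 4, 1, 4, 8, 3, 6, 0, 3],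
   [14, 14, 15, 14, 14, 15, 11, 14, 14, 15, 15, 14, 9, 15, 14, 11, 0, 6, 2, 0, 2, 7, 8, 6, 8, 3, 8, 7, 3, 8, 0, 6, 5, 6, 0, 4, 2, 3, 0, 4],
   [14, 14, 16, 15, 16, 13, 16, 15, 15, 10, 11, 11, 12, 14, 13, 9, 15, 14, 9, 11, 10, 1, 1, 4, 4, 2, 6, 4, 2, 0, 8, 0, 3, 7, 2, 8, 0, 6, 3, 5, 1, 3, 6, 3, 7],
   [17, 17, 16, 14, 15, 15, 17, 11, 14, 15, 10, 11, 14, 15, 10, 1, 6, 4, 8, 7, 0, 5, 6, 4, 0, 2, 3, 5, 2, 5, 6, 3, 4, 1, 6, 8, 5, 8, 7],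
   [18, 16, 17, 15, 15, 14, 15, 11, 10, 11, 11, 9, 11, 17, 10, 9, 8, 3, 1, 0, 1, 2, 2, 2, 8, 3, 4, 5, 8, 4, 5, 5, 5, 1, 4, 3, 7, 2, 8, 1],
   [18, 16, 17, 14, 14, 15, 18, 11, 11, 16, 9, 17, 15, 10, 9, 1, 3, 5, 0, 0, 0, 4, 5, 7, 6, 5, 6, 1, 1, 5, 7, 1, 4, 3, 8, 7, 5, 4, 2]]

theorem hcol9 : Fn.ColOK TT 9 [2, 1, 4, 1, 7, 7, 7, 6, 3, 1, 7, 0, 6, 6, 0, 7, 4, 3, 1, 5, 0, 0, 0, 8] cN :=
  Fn.colOK_step hs9_0 rfl
    (Fn.colOK_start TT 9 [2, 1, 4, 1, 7, 7, 7, 6, 3, 1, 7, 0, 6, 6, 0, 7, 4, 3, 1, 5, 0, 0, 0, 8])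

theorem hstep9 : Fn.slpStepK TT cN 9 [2, 1, 4, 1, 7, 7, 7, 6, 3, 1, 7, 0, 6, 6, 0, 7, 4, 3, 1, 5, 0, 0, 0, 8] = true :=
  Fn.slpStepK_of_colOK (by decide) hcol9

theorem hcol10 : Fn.ColOK TT 10 [9, 9, 9, 9, 9, 9, 9, 9, 9, 0, 6, 3, 6, 0, 8, 3, 7, 7, 8, 3, 5, 3, 3, 7, 4, 0, 6, 8, 1, 2, 4, 1, 5] cN :=
  Fn.colOK_step hs10_0 rfl
    (Fn.colOK_start TT 10 [9, 9, 9, 9, 9, 9, 9, 9, 9, 0, 6, 3, 6, 0, 8, 3, 7, 7, 8, 3, 5, 3, 3, 7, 4, 0, 6, 8, 1, 2, 4, 1, 5])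

theorem hstep10 : Fn.slpStepK TT cN 10 [9, 9, 9, 9, 9, 9, 9, 9, 9, 0, 6, 3, 6, 0, 8, 3, 7, 7, 8, 3, 5, 3, 3, 7, 4, 0, 6, 8, 1, 2, 4, 1, 5] = true :=
  Fn.slpStepK_of_colOK (by decide) hcol10

theorem hcol11 : Fn.ColOK TT 11 [9, 9, 9, 9, 9, 9, 9, 9, 9, 8, 6, 8, 3, 4, 4, 7, 8, 6, 0, 7, 3, 6, 6, 2, 5, 8, 5, 1, 7, 8, 1, 2, 8] cN :=
  Fn.colOK_step hs11_0 rfl
    (Fn.colOK_start TT 11 [9, 9, 9, 9, 9, 9, 9, 9, 9, 8, 6, 8, 3, 4, 4, 7, 8, 6, 0, 7, 3, 6, 6, 2, 5, 8, 5, 1, 7, 8, 1, 2, 8])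

theorem hstep11 : Fn.slpStepK TT cN 11 [9, 9, 9, 9, 9, 9, 9, 9, 9, 8, 6, 8, 3, 4, 4, 7, 8, 6, 0, 7, 3, 6, 6, 2, 5, 8, 5, 1, 7, 8, 1, 2, 8] = true :=
  Fn.slpStepK_of_colOK (by decide) hcol11

theorem hcol12 : Fn.ColOK TT 12 [9, 10, 11, 9, 10, 11, 11, 9, 10, 6, 5, 7, 0, 7, 0, 4, 6, 2, 2, 8, 3, 0, 3, 8, 8, 3, 6, 8, 5, 5, 7, 4, 8] cN :=
  Fn.colOK_step hs12_0 rfl
    (Fn.colOK_start TT 12 [9, 10, 11, 9, 10, 11, 11, 9, 10, 6, 5, 7, 0, 7, 0, 4, 6, 2, 2, 8, 3, 0, 3, 8, 8, 3, 6, 8, 5, 5, 7, 4, 8])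

theorem hstep12 : Fn.slpStepK TT cN 12 [9, 10, 11, 9, 10, 11, 11, 9, 10, 6, 5, 7, 0, 7, 0, 4, 6, 2, 2, 8, 3, 0, 3, 8, 8, 3, 6, 8, 5, 5, 7, 4, 8] = true :=
  Fn.slpStepK_of_colOK (by decide) hcol12

theorem hcol13 : Fn.ColOK TT 13 [12, 11, 12, 12, 12, 10, 10, 9, 11, 10, 12, 12, 9, 11, 0, 6, 8, 2, 8, 8, 3, 6, 0, 7, 5, 8, 3, 8, 6, 7, 5, 6, 5, 0, 8, 8, 5, 7] cN :=
  Fn.colOK_step hs13_1 rfl
    (Fn.colOK_step hs13_0 rfl
    (Fn.colOK_start TT 13 [12, 11, 12, 12, 12, 10, 10, 9, 11, 10, 12, 12, 9, 11, 0, 6, 8, 2, 8, 8, 3, 6, 0, 7, 5, 8, 3, 8, 6, 7, 5, 6, 5, 0, 8, 8, 5, 7]))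

theorem hstep13 : Fn.slpStepK TT cN 13 [12, 11, 12, 12, 12, 10, 10, 9, 11, 10, 12, 12, 9, 11, 0, 6, 8, 2, 8, 8, 3, 6, 0, 7, 5, 8, 3, 8, 6, 7, 5, 6, 5, 0, 8, 8, 5, 7] = true :=
  Fn.slpStepK_of_colOK (by decide) hcol13

theorem hcol14 : Fn.ColOK TT 14 [13, 11, 11, 11, 13, 13, 13, 10, 12, 10, 10, 10, 0, 3, 2, 8, 2, 1, 8, 4, 0, 1, 1, 0, 7, 0, 4, 3, 4, 1, 2, 5, 4, 1, 2, 2] cN :=
  Fn.colOK_step hs14_1 rfl
    (Fn.colOK_step hs14_0 rfl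
    (Fn.colOK_start TT 14 [13, 11, 11, 11, 13, 13, 13, 10, 12, 10, 10, 10, 0, 3, 2, 8, 2, 1, 8, 4, 0, 1, 1, 0, 7, 0, 4, 3, 4, 1, 2, 5, 4, 1, 2, 2]))

theorem hstep14 : Fn.slpStepK TT cN 14 [13, 11, 11, 11, 13, 13, 13, 10, 12, 10, 10, 10, 0, 3, 2, 8, 2, 1, 8, 4, 0, 1, 1, 0, 7, 0, 4, 3, 4, 1, 2, 5, 4, 1, 2, 2] = true :=
  Fn.slpStepK_of_colOK (by decide) hcol14

theorem hcol15 : Fn.ColOK TT 15 [13, 14, 13, 11, 11, 13, 12, 13, 12, 14, 14, 9, 11, 13, 11, 9, 10, 13, 10, 4, 8, 2, 4, 4, 7, 5, 7, 7, 1, 0, 4, 6, 5, 6, 3, 4, 1, 4, 8, 3, 6, 0, 3] cN :=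
  Fn.colOK_step hs15_1 rfl
    (Fn.colOK_step hs15_0 rfl
    (Fn.colOK_start TT 15 [13, 14, 13, 11, 11, 13, 12, 13, 12, 14, 14, 9, 11, 13, 11, 9, 10, 13, 10, 4, 8, 2, 4, 4, 7, 5, 7, 7, 1, 0, 4, 6, 5, 6, 3, 4, 1, 4, 8, 3, 6, 0, 3]))

theorem hstep15 : Fn.slpStepK TT cN 15 [13, 14, 13, 11, 11, 13, 12, 13, 12, 14, 14, 9, 11, 13, 11, 9, 10, 13, 10, 4, 8, 2, 4, 4, 7, 5, 7, 7, 1, 0, 4, 6, 5, 6, 3, 4, 1, 4, 8, 3, 6, 0, 3] = true :=
  Fn.slpStepK_of_colOK (by decide) hcol15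

theorem hcol16 : Fn.ColOK TT 16 [14, 14, 15, 14, 14, 15, 11, 14, 14, 15, 15, 14, 9, 15, 14, 11, 0, 6, 2, 0, 2, 7, 8, 6, 8, 3, 8, 7, 3, 8, 0, 6, 5, 6, 0, 4, 2, 3, 0, 4] cN :=
  Fn.colOK_step hs16_1 rfl
    (Fn.colOK_step hs16_0 rfl
    (Fn.colOK_start TT 16 [14, 14, 15, 14, 14, 15, 11, 14, 14, 15, 15, 14, 9, 15, 14, 11, 0, 6, 2, 0, 2, 7, 8, 6, 8, 3, 8, 7, 3, 8, 0, 6, 5, 6, 0, 4, 2, 3, 0, 4]))

theorem hstep16 : Fn.slpStepK TT cN 16 [14, 14, 15, 14, 14, 15, 11, 14, 14, 15, 15, 14, 9, 15, 14, 11, 0, 6, 2, 0, 2, 7, 8, 6, 8, 3, 8, 7, 3, 8, 0, 6, 5, 6, 0, 4, 2, 3, 0, 4] = true :=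
  Fn.slpStepK_of_colOK (by decide) hcol16

theorem hcol17 : Fn.ColOK TT 17 [14, 14, 16, 15, 16, 13, 16, 15, 15, 10, 11, 11, 12, 14, 13, 9, 15, 14, 9, 11, 10, 1, 1, 4, 4, 2, 6, 4, 2, 0, 8, 0, 3, 7, 2, 8, 0, 6, 3, 5, 1, 3, 6, 3, 7] cN :=
  Fn.colOK_step hs17_1 rfl
    (Fn.colOK_step hs17_0 rfl
    (Fn.colOK_start TT 17 [14, 14, 16, 15, 16, 13, 16, 15, 15, 10, 11, 11, 12, 14, 13, 9, 15, 14, 9, 11, 10, 1, 1, 4, 4, 2, 6, 4, 2, 0, 8, 0, 3, 7, 2, 8, 0, 6, 3, 5, 1, 3, 6, 3, 7]))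

theorem hstep17 : Fn.slpStepK TT cN 17 [14, 14, 16, 15, 16, 13, 16, 15, 15, 10, 11, 11, 12, 14, 13, 9, 15, 14, 9, 11, 10, 1, 1, 4, 4, 2, 6, 4, 2, 0, 8, 0, 3, 7, 2, 8, 0, 6, 3, 5, 1, 3, 6, 3, 7] = true :=
  Fn.slpStepK_of_colOK (by decide) hcol17

theorem hcol18 : Fn.ColOK TT 18 [17, 17, 16, 14, 15, 15, 17, 11, 14, 15, 10, 11, 14, 15, 10, 1, 6, 4, 8, 7, 0, 5, 6, 4, 0, 2, 3, 5, 2, 5, 6, 3, 4, 1, 6, 8, 5, 8, 7] cN :=
  Fn.colOK_step hs18_1 rfl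
    (Fn.colOK_step hs18_0 rfl
    (Fn.colOK_start TT 18 [17, 17, 16, 14, 15, 15, 17, 11, 14, 15, 10, 11, 14, 15, 10, 1, 6, 4, 8, 7, 0, 5, 6, 4, 0, 2, 3, 5, 2, 5, 6, 3, 4, 1, 6, 8, 5, 8, 7]))

theorem hstep18 : Fn.slpStepK TT cN 18 [17, 17, 16, 14, 15, 15, 17, 11, 14, 15, 10, 11, 14, 15, 10, 1, 6, 4, 8, 7, 0, 5, 6, 4, 0, 2, 3, 5, 2, 5, 6, 3, 4, 1, 6, 8, 5, 8, 7] = true :=
  Fn.slpStepK_of_colOK (by decide) hcol18

theorem hcol19 : Fn.ColOK TT 19 [18, 16, 17, 15, 15, 14, 15, 11, 10, 11, 11, 9, 11, 17, 10, 9, 8, 3, 1, 0, 1, 2, 2, 2, 8, 3, 4, 5, 8, 4, 5, 5, 5, 1, 4, 3, 7, 2, 8, 1] cN :=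
  Fn.colOK_step hs19_1 rfl
    (Fn.colOK_step hs19_0 rfl
    (Fn.colOK_start TT 19 [18, 16, 17, 15, 15, 14, 15, 11, 10, 11, 11, 9, 11, 17, 10, 9, 8, 3, 1, 0, 1, 2, 2, 2, 8, 3, 4, 5, 8, 4, 5, 5, 5, 1, 4, 3, 7, 2, 8, 1]))

theorem hstep19 : Fn.slpStepK TT cN 19 [18, 16, 17, 15, 15, 14, 15, 11, 10, 11, 11, 9, 11, 17, 10, 9, 8, 3, 1, 0, 1, 2, 2, 2, 8, 3, 4, 5, 8, 4, 5, 5, 5, 1, 4, 3, 7, 2, 8, 1] = true :=
  Fn.slpStepK_of_colOK (by decide) hcol19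

theorem hcol20 : Fn.ColOK TT 20 [18, 16, 17, 14, 14, 15, 18, 11, 11, 16, 9, 17, 15, 10, 9, 1, 3, 5, 0, 0, 0, 4, 5, 7, 6, 5, 6, 1, 1, 5, 7, 1, 4, 3, 8, 7, 5, 4, 2] cN :=
  Fn.colOK_step hs20_1 rfl
    (Fn.colOK_step hs20_0 rfl
    (Fn.colOK_start TT 20 [18, 16, 17, 14, 14, 15, 18, 11, 11, 16, 9, 17, 15, 10, 9, 1, 3, 5, 0, 0, 0, 4, 5, 7, 6, 5, 6, 1, 1, 5, 7, 1, 4, 3, 8, 7, 5, 4, 2]))

theorem hstep20 : Fn.slpStepK TT cN 20 [18, 16, 17, 14, 14, 15, 18, 11, 11, 16, 9, 17, 15, 10, 9, 1, 3, 5, 0, 0, 0, 4, 5, 7, 6, 5, 6, 1, 1, 5, 7, 1, 4, 3, 8, 7, 5, 4, 2] = true :=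
  Fn.slpStepK_of_colOK (by decide) hcol20

theorem hslp : Fn.slpAllK TT cN 9 prog = true :=
  Fn.slpAllK_cons hstep9
    (Fn.slpAllK_cons hstep10
    (Fn.slpAllK_cons hstep11
    (Fn.slpAllK_cons hstep12
    (Fn.slpAllK_cons hstep13
    (Fn.slpAllK_cons hstep14
    (Fn.slpAllK_cons hstep15
    (Fn.slpAllK_cons hstep16
    (Fn.slpAllK_cons hstep17
    (Fn.slpAllK_cons hstep18
    (Fn.slpAllK_cons hstep19
    (Fn.slpAllK_cons hstep20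
    (Fn.slpAllK_nil TT cN 21))))))))))))

theorem hslpl : Fn.slpLettersK 9 prog = true := by decide

/-- the generators and the further elements -/
noncomputable def uu : ℕ → (PresentedGroup (Cfsg.Spor.coxRelators Cfsg.Spor.Fi22.edges ∪
      {r | r ∈ Cfsg.Spor.Fi22.extra})) :=
  Fn.slpRun prog 9 (fun x => (PresentedGroup.mk (Cfsg.Spor.coxRelators Cfsg.Spor.Fi22.edges ∪
      {r | r ∈ Cfsg.Spor.Fi22.extra})) (FreeGroup.of (gen x)))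

theorem rho_uu : ∀ x < 21, ∀ i : Fin cN, ((rho (uu x) i : Fin cN) : ℕ) = TT x i :=
  (Fn.slp_sound rho TT prog 9 _ rho_gen hslp).1

theorem uu_gen : ∀ x < 9, uu x = (PresentedGroup.mk (Cfsg.Spor.coxRelators Cfsg.Spor.Fi22.edges ∪
      {r | r ∈ Cfsg.Spor.Fi22.extra})) (FreeGroup.of (gen x)) :=
  (Fn.slp_sound rho TT prog 9 _ rho_gen hslp).2.1

theorem uu_spec : ∀ (k : ℕ) (w : List ℕ), prog[k]? = some w → uu (9 + k) = wprod uu w :=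
  Fn.slpRun_spec prog 9 _ hslpl

theorem hc0 : rho (wprod uu [0, 0]) = rho (wprod uu [0, 0]) :=
  Fn.rho_wprod_eq rho TT uu 21 rho_uu (by decide) (by decide)
    (Fn.wordsEq_step hc0_0 rfl
    (Fn.wordsEq_start TT [0, 0] [0, 0]))

theorem hc1 : rho (wprod uu [2, 0]) = rho (wprod uu [0, 2]) :=
  Fn.rho_wprod_eq rho TT uu 21 rho_uu (by decide) (by decide)
    (Fn.wordsEq_step hc1_0 rfl
    (Fn.wordsEq_start TT [2, 0] [0, 2]))

theorem hc2 : rho (wprod uu [3, 0]) = rho (wprod uu [0, 3]) :=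
  Fn.rho_wprod_eq rho TT uu 21 rho_uu (by decide) (by decide)
    (Fn.wordsEq_step hc2_0 rfl
    (Fn.wordsEq_start TT [3, 0] [0, 3]))

theorem hc3 : rho (wprod uu [4, 0]) = rho (wprod uu [0, 4]) :=
  Fn.rho_wprod_eq rho TT uu 21 rho_uu (by decide) (by decide)
    (Fn.wordsEq_step hc3_0 rfl
    (Fn.wordsEq_start TT [4, 0] [0, 4]))

theorem hc4 : rho (wprod uu [5, 0]) = rho (wprod uu [0, 5]) :=
  Fn.rho_wprod_eq rho TT uu 21 rho_uu (by decide) (by decide)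
    (Fn.wordsEq_step hc4_0 rfl
    (Fn.wordsEq_start TT [5, 0] [0, 5]))

theorem hc5 : rho (wprod uu [6, 0]) = rho (wprod uu [0, 6]) :=
  Fn.rho_wprod_eq rho TT uu 21 rho_uu (by decide) (by decide)
    (Fn.wordsEq_step hc5_0 rfl
    (Fn.wordsEq_start TT [6, 0] [0, 6]))

theorem hc6 : rho (wprod uu [7, 0]) = rho (wprod uu [0, 7]) :=
  Fn.rho_wprod_eq rho TT uu 21 rho_uu (by decide) (by decide)
    (Fn.wordsEq_step hc6_0 rfl
    (Fn.wordsEq_start TT [7, 0] [0, 7]))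

theorem hc7 : rho (wprod uu [8, 0]) = rho (wprod uu [0, 8]) :=
  Fn.rho_wprod_eq rho TT uu 21 rho_uu (by decide) (by decide)
    (Fn.wordsEq_step hc7_0 rfl
    (Fn.wordsEq_start TT [8, 0] [0, 8]))

theorem hc8 : rho (wprod uu [0, 1, 2, 3, 4, 7, 0, 1, 2, 3, 4, 7, 0, 1, 2, 3, 4, 7, 0, 1, 2, 3, 4, 7, 0, 1, 2, 3, 4, 7, 0]) = rho (wprod uu [0, 0, 1, 2, 3, 4, 7, 0, 1, 2, 3, 4, 7, 0, 1, 2, 3, 4, 7, 0, 1, 2, 3, 4, 7, 0, 1, 2, 3, 4, 7]) :=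
  Fn.rho_wprod_eq rho TT uu 21 rho_uu (by decide) (by decide)
    (Fn.wordsEq_step hc8_1 rfl
    (Fn.wordsEq_step hc8_0 rfl
    (Fn.wordsEq_start TT [0, 1, 2, 3, 4, 7, 0, 1, 2, 3, 4, 7, 0, 1, 2, 3, 4, 7, 0, 1, 2, 3, 4, 7, 0, 1, 2, 3, 4, 7, 0] [0, 0, 1, 2, 3, 4, 7, 0, 1, 2, 3, 4, 7, 0, 1, 2, 3, 4, 7, 0, 1, 2, 3, 4, 7, 0, 1, 2, 3, 4, 7])))

theorem htree0 : Fn.TreeOK hN0 rho uu 21 [9, 10, 12, 11, 13, 14, 15, 16, 17, 18, 19, 20] 1 412367833040508768549837422136698495408931705790010426246278487512379042510568828468640482818363322494234990996489108608667692575958444134050708811576272303570434416066490794235163299530923487323072072473067275691717630506766803554244489610117734505254881018478532892677472593571783579865144443427667001503299888034755830331928620088128291132538161653372273711545014593091696153713191375721527737180013727586412165293225540361164988362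0607541869985422611380925136858353400304606133084255357430301930613665490583193975084451066213800348446463658847351044167257072998067401824974454641569423021718445571724956556610925411248121271018867103767845126877315661086297321467468234450388231735471475672432407097826847947552577946732477743671085802532103177658853957960953937628759295649081969101068141306491454515657017075167637032474324430969643933568914915807923425951587598028215460799776130796600200956964482108313216473786634870222110938349411949520063457665149056813193039601852026593109271569256781038420076239187040954693149511676801395787300912507360641023 3510 :=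
  Fn.treeOK_step hN0 rho TT uu 21 rho_uu ht0_1 rfl
    (Fn.treeOK_step hN0 rho TT uu 21 rho_uu ht0_0 rfl
    (Fn.treeOK_start hN0 rho uu 21 [9, 10, 12, 11, 13, 14, 15, 16, 17, 18, 19, 20] 1 (by decide)))

theorem hlev0 : Fn.LevelOK hN0 rho [] 1 3510 :=
  Fn.levelOK_of_tree hN0 rho TT uu 21 rho_uu (by decide) (by decide) hgens0 htree0

theorem htree1 : Fn.TreeOK hN0 rho uu 21 [10, 12, 11, 13, 14, 15, 16, 17, 18, 19, 20] 0 4123678330405087685498374221366984954089317057900104262462784875123790425105688284686404824198189763313500898593368424110667726138623615135082716016604838903658900468018630038897950505392161352690438898262434686717508407896857056161052238249774754160101937950192209370601507276646836255967427112643749644402676911184824439056948832569700346840597711859589430122179829859955654472802944787406604423005688860005662014183479427498279828167160001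070930288216360695371076954454632974674818163336207090935946043871713308386632489733681956045286616318383677568210698329043148869092581871943350870894806413859158176976624189023020136681351824632886904607556726723335498405514200382917050296424284557873997229051861315476680492957649774280853470499563559618460308577051879344192515555686280000736115897973777829435673865550894553883450741269055782463906430573620985834780436671307853071591071067940463722987630025249606586732079079797265672252990777270020056088781214941657927681969850010932764301998422204312908115045629768181781065516863024389260668163021655128493 2816 :=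
  Fn.treeOK_step hN0 rho TT uu 21 rho_uu ht1_0 rfl
    (Fn.treeOK_start hN0 rho uu 21 [10, 12, 11, 13, 14, 15, 16, 17, 18, 19, 20] 0 (by decide))

theorem hlev1 : Fn.LevelOK hN0 rho [1] 0 2816 :=
  Fn.levelOK_of_tree hN0 rho TT uu 21 rho_uu (by decide) (by decide) hgens1 htree1

theorem htree2 : Fn.TreeOK hN0 rho uu 21 [11, 13, 14, 15, 16, 17, 18, 19, 20] 3 38948569899403818670935437525811179662580540229765180052788276691842355879834343832540776370087107460674717362301345455813559924912450750120784214847986222938205300946816985748384866248975529503268024809619230331544646494643604519567432427164762112343605600841059589105875292616166499727909441983461436591175176558243178860303852051472358599382512215874538383947941109896272717871106673923461986061155511095245863476896558200022302718302259333200395907223127756960028926272109547881986831308153232158968816168700714939263667327066785910513725086364572857931548025436261697278646284079295218357027691957094547781883561796504994774571120476302475647639217696975088551770730674600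 567 :=
  Fn.treeOK_step hN0 rho TT uu 21 rho_uu ht2_0 rfl
    (Fn.treeOK_start hN0 rho uu 21 [11, 13, 14, 15, 16, 17, 18, 19, 20] 3 (by decide))

theorem hlev2 : Fn.LevelOK hN0 rho [0, 1] 3 567 :=
  Fn.levelOK_of_tree hN0 rho TT uu 21 rho_uu (by decide) (by decide) hgens2 htree2

theorem htree3 : Fn.TreeOK hN0 rho uu 21 [14, 15, 16, 17, 18, 19, 20] 5 91656159185649421071327897406488240289156577741786979612173979794702424475195859997115336590075265095324081042488013796651019454626115721130434838280608 96 :=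
  Fn.treeOK_step hN0 rho TT uu 21 rho_uu ht3_0 rfl
    (Fn.treeOK_start hN0 rho uu 21 [14, 15, 16, 17, 18, 19, 20] 5 (by decide))

theorem hlev3 : Fn.LevelOK hN0 rho [3, 0, 1] 5 96 :=
  Fn.levelOK_of_tree hN0 rho TT uu 21 rho_uu (by decide) (by decide) hgens3 htree3

theorem htree4 : Fn.TreeOK hN0 rho uu 21 [16, 17, 18, 19, 20] 7 356811923176489980168091806658926800425060480 10 :=
  Fn.treeOK_step hN0 rho TT uu 21 rho_uu ht4_0 rfl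
    (Fn.treeOK_start hN0 rho uu 21 [16, 17, 18, 19, 20] 7 (by decide))

theorem hlev4 : Fn.LevelOK hN0 rho [5, 3, 0, 1] 7 10 :=
  Fn.levelOK_of_tree hN0 rho TT uu 21 rho_uu (by decide) (by decide) hgens4 htree4

theorem htree5 : Fn.TreeOK hN0 rho uu 21 [18, 19, 20] 8 4202752 3 :=
  Fn.treeOK_step hN0 rho TT uu 21 rho_uu ht5_0 rfl
    (Fn.treeOK_start hN0 rho uu 21 [18, 19, 20] 8 (by decide))

theorem hlev5 : Fn.LevelOK hN0 rho [7, 5, 3, 0, 1] 8 3 :=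
  Fn.levelOK_of_tree hN0 rho TT uu 21 rho_uu (by decide) (by decide) hgens5 htree5

theorem htree6 : Fn.TreeOK hN0 rho uu 21 [19, 20] 11 1074399232 4 :=
  Fn.treeOK_step hN0 rho TT uu 21 rho_uu ht6_0 rfl
    (Fn.treeOK_start hN0 rho uu 21 [19, 20] 11 (by decide))

theorem hlev6 : Fn.LevelOK hN0 rho [8, 7, 5, 3, 0, 1] 11 4 :=
  Fn.levelOK_of_tree hN0 rho TT uu 21 rho_uu (by decide) (by decide) hgens6 htree6

theorem hlevels : Fn.LevelsOK hN0 rho [] [(1, 3510), (0, 2816), (3, 567), (5, 96), (7, 10), (8, 3), (11, 4)] :=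
  Fn.levelsOK_cons hN0 rho hlev0
    (Fn.levelsOK_cons hN0 rho hlev1
    (Fn.levelsOK_cons hN0 rho hlev2
    (Fn.levelsOK_cons hN0 rho hlev3
    (Fn.levelsOK_cons hN0 rho hlev4
    (Fn.levelsOK_cons hN0 rho hlev5
    (Fn.levelsOK_cons hN0 rho hlev6
    (Fn.levelsOK_nil hN0 rho _)))))))

/-- the lower bound for the order, and the injectivity of the representation if it is attained -/
theorem lower [Finite (PresentedGroup (Cfsg.Spor.coxRelators Cfsg.Spor.Fi22.edges ∪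
      {r | r ∈ Cfsg.Spor.Fi22.extra}))] :
    64561751654400 ≤ Nat.card (PresentedGroup (Cfsg.Spor.coxRelators Cfsg.Spor.Fi22.edges ∪
      {r | r ∈ Cfsg.Spor.Fi22.extra})) ∧
    (Nat.card (PresentedGroup (Cfsg.Spor.coxRelators Cfsg.Spor.Fi22.edges ∪
      {r | r ∈ Cfsg.Spor.Fi22.extra})) ≤ 64561751654400 → Function.Injective rho) := by
  have h := Fn.order_lower_parts hN0 rho [(1, 3510), (0, 2816), (3, 567), (5, 96), (7, 10), (8, 3), (11, 4)] hlevels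
  have e : (([(1, 3510), (0, 2816), (3, 567), (5, 96), (7, 10), (8, 3), (11, 4)] : List (ℕ × ℕ)).map Prod.snd).prod = 64561751654400 := by decide
  rw [e] at h
  exact h

end Cfsg.Agent.Lib.Helper12.TC.Fi22o3510
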