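import Cfsg.Agent.Lib.Helper12.TC.Fi22o3510.Tab

/-! relator checks for Fi22o3510, part 1 (generated, helper12) -/

set_option autoImplicit false
set_option maxRecDepth 100000

namespace Cfsg.Agent.Lib.Helper12.TC.Fi22o3510

open Cfsg.Agent.Lib.Helper12.TC

theorem horbi0_4 : Fn.orbInvOneK TT [5] 1 2817 = true := by decide +kernel

theorem horbi0_7 : Fn.orbInvOneK TT [8] 1 2817 = true := by decide +kernel

theorem horbi1_6 : Fn.orbInvOneK TT [7] 2817 3510 = true := by decide +kernel

theorem hperm1 : Fn.permOneK TT 1 cN = true := by decide +kernel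

theorem hperm3 : Fn.permOneK TT 3 cN = true := by decide +kernel

theorem hperm6 : Fn.permOneK TT 6 cN = true := by decide +kernel

theorem hm0 : Fn.marksK TT cN [([0, 1], 3)] = true := by decide +kernel

theorem hm3 : Fn.marksK TT cN [([0, 3], 2)] = true := by decide +kernel

theorem hm6 : Fn.marksK TT cN [([0, 4], 2)] = true := by decide +kernel

theorem hm10 : Fn.marksK TT cN [([0, 5], 2)] = true := by decide +kernel

theorem hm14 : Fn.marksK TT cN [([4, 5], 3)] = true := by decide +kernel

theorem hm18 : Fn.marksK TT cN [([3, 6], 2)] = true := by decide +kernel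

theorem hm22 : Fn.marksK TT cN [([1, 7], 2)] = true := by decide +kernel

theorem hm26 : Fn.marksK TT cN [([5, 7], 2)] = true := by decide +kernel

theorem hm30 : Fn.marksK TT cN [([2, 8], 2)] = true := by decide +kernel

theorem hm34 : Fn.marksK TT cN [([6, 8], 2)] = true := by decide +kernel

theorem hm36 : Fn.marksK TT cN [([3, 2, 1, 3, 4, 5, 3, 7, 8], 10)] = true := by decide +kernel

end Cfsg.Agent.Lib.Helper12.TC.Fi22o3510
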