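import Cfsg.Agent.Lib.Helper12.TC.Fi22o3510.Tab

/-! relator checks for Fi22o3510, part 2 (generated, helper12) -/

set_option autoImplicit false
set_option maxRecDepth 100000

namespace Cfsg.Agent.Lib.Helper12.TC.Fi22o3510

open Cfsg.Agent.Lib.Helper12.TC

theorem horbi0_0 : Fn.orbInvOneK TT [0] 1 2817 = true := by decide +kernel

theorem horbi0_2 : Fn.orbInvOneK TT [3] 1 2817 = true := by decide +kernel

theorem horbi0_5 : Fn.orbInvOneK TT [6] 1 2817 = true := by decide +kernel

theorem horbi1_2 : Fn.orbInvOneK TT [3] 2817 3510 = true := by decide +kernel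

theorem horbi1_5 : Fn.orbInvOneK TT [6] 2817 3510 = true := by decide +kernel

theorem horbi1_8 : Fn.orbInvOneK TT [0, 1, 2, 3, 4, 7, 0, 1, 2, 3, 4, 7, 0, 1, 2, 3, 4, 7, 0, 1, 2, 3, 4, 7, 0, 1, 2, 3, 4, 7] 2817 3510 = true := by decide +kernel

theorem hperm5 : Fn.permOneK TT 5 cN = true := by decide +kernel

theorem hperm8 : Fn.permOneK TT 8 cN = true := by decide +kernel

theorem hm2 : Fn.marksK TT cN [([1, 2], 3)] = true := by decide +kernel

theorem hm5 : Fn.marksK TT cN [([2, 3], 3)] = true := by decide +kernel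

theorem hm8 : Fn.marksK TT cN [([2, 4], 2)] = true := by decide +kernel

theorem hm12 : Fn.marksK TT cN [([2, 5], 2)] = true := by decide +kernel

theorem hm16 : Fn.marksK TT cN [([1, 6], 2)] = true := by decide +kernel

theorem hm20 : Fn.marksK TT cN [([5, 6], 3)] = true := by decide +kernel

theorem hm24 : Fn.marksK TT cN [([3, 7], 3)] = true := by decide +kernel

theorem hm28 : Fn.marksK TT cN [([0, 8], 2)] = true := by decide +kernel

theorem hm32 : Fn.marksK TT cN [([4, 8], 2)] = true := by decide +kernel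

theorem hm37 : Fn.marksK TT cN [([0, 1, 2, 3, 4, 5, 7], 9)] = true := by decide +kernel

end Cfsg.Agent.Lib.Helper12.TC.Fi22o3510
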