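import Cfsg.Agent.Lib.Helper12.TC.Fn.Rho
import Cfsg.Agent.Lib.Helper12.TC.Fi22o3510.Chk0
import Cfsg.Agent.Lib.Helper12.TC.Fi22o3510.Perm
import Cfsg.Agent.Lib.Helper12.TC.Fi22o3510.Fin

/-! the index theorem for Fi22o3510 (generated, helper12) -/

set_option autoImplicit false
set_option maxRecDepth 100000
set_option linter.unusedSimpArgs false

namespace Cfsg.Agent.Lib.Helper12.TC.Fi22o3510

open Cfsg.Agent.Lib.Helper12.TC Cfsg.Agent.Lib.Helper12.TC.Fi22Pres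

/-- the chunks of the certificate -/
def chunks : List (ℕ × List ℕ) :=
  [(3536, c0), (5536, c1), (7536, c2), (9536, c3), (11536, c4), (13536, c5), (15536, c6), (17536, c7)]

theorem hcover : coverK cD cK chunks = true := by decide +kernel

theorem hchunks : ∀ c ∈ chunks, chunkK F RW cR0 c.2 c.1 = true := by
  unfold chunks
  simp only [List.forall_mem_cons, List.not_mem_nil, false_imp_iff, implies_true, and_true]
  exact ⟨chunk0, chunk1, chunk2, chunk3, chunk4, chunk5, chunk6, chunk7⟩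

/-- the subgroup generators -/
def S : Set (FreeGroup Cfsg.Spor.Fi22.Gen) := {Cfsg.Spor.Fi22.a, Cfsg.Spor.Fi22.c, Cfsg.Spor.Fi22.d, Cfsg.Spor.Fi22.e, Cfsg.Spor.Fi22.f, Cfsg.Spor.Fi22.g, Cfsg.Spor.Fi22.h, Cfsg.Spor.Fi22.i, (Cfsg.Spor.Fi22.a * Cfsg.Spor.Fi22.b * Cfsg.Spor.Fi22.c * Cfsg.Spor.Fi22.d * Cfsg.Spor.Fi22.e * Cfsg.Spor.Fi22.h) ^ 5}

set_option maxRecDepth 10000 in
theorem hS : (PresentedGroup.mk (Cfsg.Spor.coxRelators Cfsg.Spor.Fi22.edges ∪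
      {r | r ∈ Cfsg.Spor.Fi22.extra})) '' S =
    {γ | ∃ w ∈ sw, γ = wprod (fun i => PresentedGroup.mk (Cfsg.Spor.coxRelators Cfsg.Spor.Fi22.edges ∪
      {r | r ∈ Cfsg.Spor.Fi22.extra}) (FreeGroup.of (gen i))) w} := by
  ext γ
  constructor
  · rintro ⟨x, hx, rfl⟩
    rcases hx with rfl | rfl | rfl | rfl | rfl | rfl | rfl | rfl | rfl
    · exact ⟨[0], by decide, by simp [wprod, gen, pow_succ, mul_assoc]⟩
    · exact ⟨[2], by decide, by simp [wprod, gen, pow_succ, mul_assoc]⟩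
    · exact ⟨[3], by decide, by simp [wprod, gen, pow_succ, mul_assoc]⟩
    · exact ⟨[4], by decide, by simp [wprod, gen, pow_succ, mul_assoc]⟩
    · exact ⟨[5], by decide, by simp [wprod, gen, pow_succ, mul_assoc]⟩
    · exact ⟨[6], by decide, by simp [wprod, gen, pow_succ, mul_assoc]⟩
    · exact ⟨[7], by decide, by simp [wprod, gen, pow_succ, mul_assoc]⟩
    · exact ⟨[8], by decide, by simp [wprod, gen, pow_succ, mul_assoc]⟩
    · exact ⟨[0, 1, 2, 3, 4, 7, 0, 1, 2, 3, 4, 7, 0, 1, 2, 3, 4, 7, 0, 1, 2, 3, 4, 7, 0, 1, 2, 3, 4, 7], by decide, by simp [wprod, gen, pow_succ, mul_assoc]⟩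
  · rintro ⟨w, hw, rfl⟩
    simp only [sw, List.mem_cons, List.not_mem_nil, or_false] at hw
    rcases hw with rfl | rfl | rfl | rfl | rfl | rfl | rfl | rfl | rfl
    · exact ⟨Cfsg.Spor.Fi22.a, Or.inl rfl, by simp [wprod, gen, pow_succ, mul_assoc]⟩
    · exact ⟨Cfsg.Spor.Fi22.c, Or.inr (Or.inl rfl), by simp [wprod, gen, pow_succ, mul_assoc]⟩
    · exact ⟨Cfsg.Spor.Fi22.d, Or.inr (Or.inr (Or.inl rfl)), by simp [wprod, gen, pow_succ, mul_assoc]⟩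
    · exact ⟨Cfsg.Spor.Fi22.e, Or.inr (Or.inr (Or.inr (Or.inl rfl))), by simp [wprod, gen, pow_succ, mul_assoc]⟩
    · exact ⟨Cfsg.Spor.Fi22.f, Or.inr (Or.inr (Or.inr (Or.inr (Or.inl rfl)))), by simp [wprod, gen, pow_succ, mul_assoc]⟩
    · exact ⟨Cfsg.Spor.Fi22.g, Or.inr (Or.inr (Or.inr (Or.inr (Or.inr (Or.inl rfl))))), by simp [wprod, gen, pow_succ, mul_assoc]⟩
    · exact ⟨Cfsg.Spor.Fi22.h, Or.inr (Or.inr (Or.inr (Or.inr (Or.inr (Or.inr (Or.inl rfl)))))), by simp [wprod, gen, pow_succ, mul_assoc]⟩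
    · exact ⟨Cfsg.Spor.Fi22.i, Or.inr (Or.inr (Or.inr (Or.inr (Or.inr (Or.inr (Or.inr (Or.inl rfl))))))), by simp [wprod, gen, pow_succ, mul_assoc]⟩
    · exact ⟨(Cfsg.Spor.Fi22.a * Cfsg.Spor.Fi22.b * Cfsg.Spor.Fi22.c * Cfsg.Spor.Fi22.d * Cfsg.Spor.Fi22.e * Cfsg.Spor.Fi22.h) ^ 5, Or.inr (Or.inr (Or.inr (Or.inr (Or.inr (Or.inr (Or.inr (Or.inr (rfl)))))))), by simp [wprod, gen, pow_succ, mul_assoc]⟩

theorem hN0 : 0 < cN := by decide

/-- the permutation representation on the cosets of the subgroup -/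
theorem mainRho :
    ∃ ρ : PresentedGroup (Cfsg.Spor.coxRelators Cfsg.Spor.Fi22.edges ∪
      {r | r ∈ Cfsg.Spor.Fi22.extra}) →* Equiv.Perm (Fin cN),
      (∀ x < 9, ∀ i : Fin cN, ((ρ (PresentedGroup.mk (Cfsg.Spor.coxRelators Cfsg.Spor.Fi22.edges ∪
      {r | r ∈ Cfsg.Spor.Fi22.extra})
        (FreeGroup.of (gen x))) i : Fin cN) : ℕ) = TT x i) ∧
      ((Subgroup.closure S).map (PresentedGroup.mk (Cfsg.Spor.coxRelators Cfsg.Spor.Fi22.edges ∪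
      {r | r ∈ Cfsg.Spor.Fi22.extra}))).index = cN ∧
      ∃ Φ : (PresentedGroup (Cfsg.Spor.coxRelators Cfsg.Spor.Fi22.edges ∪
      {r | r ∈ Cfsg.Spor.Fi22.extra}) ⧸
          (Subgroup.closure S).map (PresentedGroup.mk (Cfsg.Spor.coxRelators Cfsg.Spor.Fi22.edges ∪
      {r | r ∈ Cfsg.Spor.Fi22.extra}))) ≃ Fin cN,
        ∀ γ : PresentedGroup (Cfsg.Spor.coxRelators Cfsg.Spor.Fi22.edges ∪
      {r | r ∈ Cfsg.Spor.Fi22.extra}),
          Φ (γ : PresentedGroup (Cfsg.Spor.coxRelators Cfsg.Spor.Fi22.edges ∪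
      {r | r ∈ Cfsg.Spor.Fi22.extra}) ⧸
            (Subgroup.closure S).map (PresentedGroup.mk (Cfsg.Spor.coxRelators Cfsg.Spor.Fi22.edges ∪
      {r | r ∈ Cfsg.Spor.Fi22.extra}))) = ρ γ ⟨0, hN0⟩ :=
  Fn.presented_rho Cfsg.Spor.Fi22.edges Cfsg.Spor.Fi22.extra gen idx 9 (by decide) hidx hgi hnodes
    extraWords hextra sw S hS F RW finrecs TT rotW chunks cD cK cR0 cR cN hdefs hchunks hcover
    hrelc hlet hperm hrels hsub htrans hfin hlen hN0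

end Cfsg.Agent.Lib.Helper12.TC.Fi22o3510
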