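import Cfsg.Agent.Lib.Helper12.TC.Fi22o3510.Tab

/-! relator checks for Fi22o3510, part 0 (generated, helper12) -/

set_option autoImplicit false
set_option maxRecDepth 100000

namespace Cfsg.Agent.Lib.Helper12.TC.Fi22o3510

open Cfsg.Agent.Lib.Helper12.TC

theorem horbi0_1 : Fn.orbInvOneK TT [2] 1 2817 = true := by decide +kernel

theorem horbi0_3 : Fn.orbInvOneK TT [4] 1 2817 = true := by decide +kernel

theorem horbi0_6 : Fn.orbInvOneK TT [7] 1 2817 = true := by decide +kernel

theorem horbi0_8 : Fn.orbInvOneK TT [0, 1, 2, 3, 4, 7, 0, 1, 2, 3, 4, 7, 0, 1, 2, 3, 4, 7, 0, 1, 2, 3, 4, 7, 0, 1, 2, 3, 4, 7] 1 2817 = true := by decide +kernel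

theorem horbi1_4 : Fn.orbInvOneK TT [5] 2817 3510 = true := by decide +kernel

theorem hm9 : Fn.marksK TT cN [([3, 4], 3)] = true := by decide +kernel

theorem hm13 : Fn.marksK TT cN [([3, 5], 2)] = true := by decide +kernel

theorem hm17 : Fn.marksK TT cN [([2, 6], 2)] = true := by decide +kernel

theorem hm21 : Fn.marksK TT cN [([0, 7], 2)] = true := by decide +kernel

theorem hm25 : Fn.marksK TT cN [([4, 7], 2)] = true := by decide +kernel

theorem hm29 : Fn.marksK TT cN [([1, 8], 2)] = true := by decide +kernel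

theorem hm33 : Fn.marksK TT cN [([5, 8], 2)] = true := by decide +kernel

end Cfsg.Agent.Lib.Helper12.TC.Fi22o3510
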